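import Groth.Agent.CurveFEtExt.Points
import Groth.Agent.S1186
import Groth.Agent.S0289
import Groth.Agent.H23.RedSub
import Groth.Prelude.Def_FEt

/-!
# Extending finite étale covers from a connected closed subscheme of a curve
-/

set_option linter.style.haveILetI false
set_option autoImplicit false
set_option backward.isDefEq.respectTransparency false
set_option backward.isDefEq.respectTransparency.types false

universe u

open CategoryTheory CategoryTheory.Limits AlgebraicGeometry TopologicalSpace

namespace Groth.Agent.CurveFEtExt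

theorem exists_trivial_cover {K : Type u} [Field K] {Y : Scheme.{u}} (a : Y ⟶ Spec (CommRingCat.of K)) (d : ℕ) :
    ∃ (V : Scheme.{u}) (h : V ⟶ Y) (_ : IsFinite h) (_ : Etale h), ∀ y, h.finrank y = d := by
  let q : Spec (CommRingCat.of (Fin d → K)) ⟶ Spec (CommRingCat.of K) :=
    Spec.map (CommRingCat.ofHom (algebraMap K (Fin d → K)))
  haveI : IsFinite q := (IsFinite.SpecMap_iff _).2 (RingHom.finite_algebraMap.2 inferInstance)
  haveI : Etale q := (HasRingHomProperty.Spec_iff (P := @Etale)).2 (RingHom.etale_algebraMap.2 inferInstance)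
  refine ⟨pullback q a, pullback.snd q a, inferInstance, inferInstance, fun y => ?_⟩
  rw [Scheme.Hom.finrank_pullback_snd, Scheme.Hom.finrank_SpecMap_algebraMap,
    Module.rankAtStalk_eq_finrank_of_free, Pi.natCast_apply, Module.finrank_fin_fun]
  rfl

/-- The reduced case, for a closed set `C`: covers of constant degree on the reduced closed subscheme
of `C` extend. -/
theorem exists_extension {K : Type u} [Field K] [IsSepClosed K] {Z : Scheme.{u}} [IsReduced Z]
    (a : Z ⟶ Spec (CommRingCat.of K)) [LocallyOfFiniteType a] (hdim : topologicalKrullDim Z ≤ 1)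
    (C : Closeds Z) (U : FEt.Cat (Scheme.IdealSheafData.vanishingIdeal C).subscheme) (d : ℕ)
    (hd : ∀ y, U.hom.finrank y = d) :
    ∃ E : FEt.Cat Z,
      Nonempty ((FEt.restrict (Scheme.IdealSheafData.vanishingIdeal C).subschemeι).obj E ≅ U) := by
  haveI := U.prop.1
  haveI := U.prop.2
  haveI : IsLocallyNoetherian Z := LocallyOfFiniteType.isLocallyNoetherian a
  let D : Closeds Z := ⟨closure (C : Set Z)ᶜ, isClosed_closure⟩
  let I := Scheme.IdealSheafData.vanishingIdeal C
  let J := Scheme.IdealSheafData.vanishingIdeal D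
  have hIJ : I ⊓ J = ⊥ := by
    have hCD : C ⊔ D = ⊤ := by
      refine SetLike.ext' (Set.eq_univ_of_forall fun x => ?_)
      by_cases hx : x ∈ C
      · exact Or.inl hx
      · exact Or.inr (subset_closure hx)
    rw [← Scheme.IdealSheafData.vanishingIdeal_sup, hCD, Scheme.IdealSheafData.vanishingIdeal_top,
      Scheme.nilradical_eq_bot]
  let T := (I ⊔ J).subscheme
  let c : T ⟶ I.subscheme := Scheme.IdealSheafData.inclusion le_sup_left
  let e : T ⟶ J.subscheme := Scheme.IdealSheafData.inclusion le_sup_right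
  have hc : c ≫ I.subschemeι = (I ⊔ J).subschemeι := Scheme.IdealSheafData.inclusion_subschemeι _
  have he : e ≫ J.subschemeι = (I ⊔ J).subschemeι := Scheme.IdealSheafData.inclusion_subschemeι _
  haveI : IsClosedImmersion c := by
    haveI : IsClosedImmersion (c ≫ I.subschemeι) := by rw [hc]; infer_instance
    exact IsClosedImmersion.of_comp c I.subschemeι
  haveI : IsClosedImmersion e := by
    haveI : IsClosedImmersion (e ≫ J.subschemeι) := by rw [he]; infer_instance
    exact IsClosedImmersion.of_comp e J.subschemeι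
  have hpts : ∀ t : T, IsClosed ({t} : Set T) := by
    intro t
    have hmem : (I ⊔ J).subschemeι t ∈ (C : Set Z) ∩ closure (C : Set Z)ᶜ := by
      have h := (I ⊔ J).range_subschemeι.le ⟨t, rfl⟩
      rw [Scheme.IdealSheafData.support_sup, Closeds.coe_inf,
        Scheme.IdealSheafData.coe_support_vanishingIdeal, Scheme.IdealSheafData.coe_support_vanishingIdeal] at h
      exact h
    have := (isClosed_singleton_of_mem_frontier hdim C.isClosed hmem.1 hmem.2).preimage
      (I ⊔ J).subschemeι.continuous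
    rwa [← Set.image_singleton, Set.preimage_image_eq _ (I ⊔ J).subschemeι.isClosedEmbedding.injective] at this
  haveI : IsLocallyNoetherian T := LocallyOfFiniteType.isLocallyNoetherian ((I ⊔ J).subschemeι ≫ a)
  haveI : DiscreteTopology T := discreteTopology_of_isClosed_points hpts
  obtain ⟨V, h, hf, he', hV⟩ := exists_trivial_cover (J.subschemeι ≫ a) d
  obtain ⟨φ, hφ, hφw⟩ := exists_iso_of_finrank_eq ((I ⊔ J).subschemeι ≫ a)
    (pullback.snd U.hom c) (pullback.snd h e) fun t => by
      rw [Scheme.Hom.finrank_pullback_snd, Scheme.Hom.finrank_pullback_snd, hd, hV]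
  haveI := hφ
  let W : FEt.Cat J.subscheme := MorphismProperty.Over.mk ⊤ h ⟨hf, he'⟩
  let ψ : (FEt.restrict c).obj U ≅ (FEt.restrict e).obj W := MorphismProperty.Over.isoMk (asIso φ) hφw
  have hpo : IsPushout c e I.subschemeι J.subschemeι := by
    refine AlgSpDec.SchUnion.isPushout_of_kers (iy := I.subschemeι) (iz := J.subschemeι) (w := 𝟙 Z)
      (v := (I ⊔ J).subschemeι) I.subschemeι J.subschemeι c e (Category.comp_id _) (Category.comp_id _) hc he
      (fun O => ?_) fun O => ?_
    · rw [Scheme.Hom.ker_eq_bot_of_isIso, Scheme.IdealSheafData.ker_subschemeι,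
        Scheme.IdealSheafData.ker_subschemeι, ← hIJ, Scheme.IdealSheafData.ideal_inf]
      rfl
    · rw [Scheme.IdealSheafData.ker_subschemeι, Scheme.IdealSheafData.ker_subschemeι,
        Scheme.IdealSheafData.ker_subschemeι, Scheme.IdealSheafData.ideal_sup]
      rfl
  have h3 : ∀ y : J.subscheme, ∃ O : I.subscheme.Opens, IsAffineOpen O ∧ ∀ z : T, e z = y → c z ∈ O := by
    intro y
    by_cases hy : ∃ z, e z = y
    · obtain ⟨z, rfl⟩ := hy
      obtain ⟨O, hO, hz, -⟩ := exists_isAffineOpen_mem_and_subset (X := I.subscheme) (x := c z) (U := ⊤) trivial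
      exact ⟨O, hO, fun z' hz' => e.isClosedEmbedding.injective hz' ▸ hz⟩
    · exact ⟨⊥, isAffineOpen_bot _, fun z hz => (hy ⟨z, hz⟩).elim⟩
  obtain ⟨E, hE, -⟩ := S1186.result c e h3 I.subschemeι J.subschemeι hpo U W ψ
  exact ⟨E, hE⟩

theorem essSurj_restrict {K : Type u} [Field K] [IsSepClosed K] {Z X : Scheme.{u}}
    (a : Z ⟶ Spec (CommRingCat.of K)) [LocallyOfFiniteType a] (hdim : topologicalKrullDim Z ≤ 1)
    (i : X ⟶ Z) [IsClosedImmersion i] [ConnectedSpace X] : (FEt.restrict i).EssSurj := by
  let ιZ := (Scheme.IdealSheafData.vanishingIdeal (X := Z) ⊤).subschemeι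
  haveI : IsReduced (Scheme.IdealSheafData.vanishingIdeal (X := Z) ⊤).subscheme :=
    H23.RedSub.isReduced_vanishingIdeal _
  haveI : Surjective ιZ := ⟨fun z => by
    have h := (Scheme.IdealSheafData.vanishingIdeal (X := Z) ⊤).range_subschemeι
    rw [Scheme.IdealSheafData.coe_support_vanishingIdeal] at h
    exact h.ge trivial⟩
  haveI : UniversallyInjective ιZ := inferInstance
  haveI hιZ : (FEt.restrict ιZ).IsEquivalence := S0289.result ιZ
  let i₂ := pullback.snd i ιZ
  let C : Closeds (Scheme.IdealSheafData.vanishingIdeal (X := Z) ⊤).subscheme :=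
    ⟨Set.range i₂, i₂.isClosedEmbedding.isClosed_range⟩
  let I := Scheme.IdealSheafData.vanishingIdeal C
  have hker : i₂.ker ≤ I.subschemeι.ker := by
    rw [Scheme.IdealSheafData.ker_subschemeι, ← Scheme.IdealSheafData.le_support_iff_le_vanishingIdeal]
    exact fun x hx => i₂.range_subset_ker_support hx
  let l := IsClosedImmersion.lift i₂ I.subschemeι hker
  have hl : l ≫ i₂ = I.subschemeι := IsClosedImmersion.lift_fac _ _ _
  haveI : IsClosedImmersion l := by
    haveI : IsClosedImmersion (l ≫ i₂) := by rw [hl]; infer_instance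
    exact IsClosedImmersion.of_comp l i₂
  haveI : Surjective l := ⟨fun p => by
    have h := I.range_subschemeι
    rw [Scheme.IdealSheafData.coe_support_vanishingIdeal] at h
    obtain ⟨y, hy⟩ := h.ge ⟨p, rfl⟩
    refine ⟨y, i₂.isClosedEmbedding.injective ?_⟩
    rw [← Scheme.Hom.comp_apply, hl]
    exact hy⟩
  haveI : Surjective (pullback.fst i ιZ) := inferInstance
  let m := l ≫ pullback.fst i ιZ
  have hm : m ≫ i = I.subschemeι ≫ ιZ := by
    rw [Category.assoc, pullback.condition, ← Category.assoc, hl]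
  haveI hmE : (FEt.restrict m).IsEquivalence := S0289.result m
  refine ⟨fun E₀ => ?_⟩
  haveI := E₀.prop.1
  haveI := E₀.prop.2
  obtain ⟨x₀⟩ := (inferInstance : Nonempty X)
  obtain ⟨E₂, ⟨e₂⟩⟩ := exists_extension (ιZ ≫ a)
    (le_trans ιZ.isEmbedding.isInducing.topologicalKrullDim_le hdim) C ((FEt.restrict m).obj E₀)
    (E₀.hom.finrank x₀) fun y => by
      refine (Scheme.Hom.finrank_pullback_snd E₀.hom m y).trans ?_
      exact @IsLocallyConstant.apply_eq_of_preconnectedSpace X _ _ _ _ E₀.hom.isLocallyConstant_finrank _ _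
  let E₃ := (FEt.restrict ιZ).objPreimage E₂
  let f₁ : FEt.restrict i ⋙ FEt.restrict m ≅ FEt.restrict (I.subschemeι ≫ ιZ) :=
    (MorphismProperty.Over.pullbackComp m i _ hm.symm).symm
  let f₂ : FEt.restrict ιZ ⋙ FEt.restrict I.subschemeι ≅ FEt.restrict (I.subschemeι ≫ ιZ) :=
    (MorphismProperty.Over.pullbackComp I.subschemeι ιZ _ rfl).symm
  exact ⟨E₃, ⟨(FEt.restrict m).preimageIso (f₁.app E₃ ≪≫ (f₂.app E₃).symm ≪≫
    (FEt.restrict I.subschemeι).mapIso ((FEt.restrict ιZ).objObjPreimageIso E₂) ≪≫ e₂)⟩⟩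

end Groth.Agent.CurveFEtExt
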