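import Mathlib
import Groth.Agent.EtCount.Basic
import Groth.Agent.AlgSpDec.SchUnion
import Groth.Agent.H9EtDeg.Basic

/-!
# Frontier points of one dimensional schemes and finite étale covers of discrete schemes
-/

set_option linter.style.haveILetI false
set_option autoImplicit false
set_option backward.isDefEq.respectTransparency false
set_option backward.isDefEq.respectTransparency.types false

universe u

open CategoryTheory CategoryTheory.Limits AlgebraicGeometry TopologicalSpace

namespace Groth.Agent.CurveFEtExt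

theorem mem_irreducibleComponents_closure {α : Type*} [TopologicalSpace α] [QuasiSober α] {t : α}
    (h : ∀ η, η ⤳ t → η = t) : closure {t} ∈ irreducibleComponents α := by
  refine ⟨isIrreducible_singleton.closure, fun s hs hle => ?_⟩
  have hη := hs.isGenericPoint_genericPoint_closure
  have hηs : hs.genericPoint ⤳ t := specializes_iff_mem_closure.2
    (hη.def.symm ▸ subset_closure (hle (subset_closure rfl)))
  rw [← h _ hηs, hη.def]
  exact subset_closure

/-- In a locally Noetherian scheme of dimension at most one the frontier of a closed set consists of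
closed points. -/
theorem isClosed_singleton_of_mem_frontier {Z : Scheme.{u}} [IsLocallyNoetherian Z]
    (hdim : topologicalKrullDim Z ≤ 1) {C : Set Z} (hC : IsClosed C) {t : Z} (ht : t ∈ C)
    (ht' : t ∈ closure Cᶜ) : IsClosed ({t} : Set Z) := by
  by_contra hnc
  obtain ⟨t₀, ht₀, hne⟩ : ∃ t₀ ∈ closure ({t} : Set Z), t₀ ≠ t := by
    by_contra h
    push Not at h
    exact hnc (isClosed_of_closure_subset fun x hx => h x hx)
  have hmax : ∀ η, η ⤳ t → η = t := by
    intro η hη
    by_contra hn
    let c : Z → IrreducibleCloseds Z := fun x => ⟨closure {x}, isIrreducible_singleton.closure, isClosed_closure⟩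
    have lt : ∀ x y : Z, y ⤳ x → y ≠ x → c x < c y := fun x y hs hxy =>
      lt_of_le_of_ne (closure_minimal (Set.singleton_subset_iff.2 hs.mem_closure) isClosed_closure) fun he => by
        refine hxy ((inseparable_iff_closure_eq.2 ?_).eq)
        exact (congrArg (fun s : IrreducibleCloseds Z => (s : Set Z)) he).symm
    let p : LTSeries (IrreducibleCloseds Z) :=
      (((RelSeries.singleton _ (c t₀)).snoc (c t) (lt t₀ t (specializes_iff_mem_closure.2 ht₀) (Ne.symm hne))).snoc
        (c η) (by rw [RelSeries.last_snoc]; exact lt t η hη hn))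
    have h2 : ((2 : ℕ) : WithBot ℕ∞) ≤ ((1 : ℕ) : WithBot ℕ∞) := (Order.LTSeries.length_le_krullDim p).trans hdim
    norm_cast at h2
  obtain ⟨U, hU, htU, -⟩ := exists_isAffineOpen_mem_and_subset (X := Z) (x := t) (U := ⊤) trivial
  haveI : IsAffine U.toScheme := hU
  haveI : IsLocallyNoetherian U.toScheme := isLocallyNoetherian_of_isOpenImmersion U.ι
  haveI : AlgebraicGeometry.IsNoetherian U.toScheme := { }
  let w : U.toScheme := ⟨t, htU⟩
  have hw : closure {w} ∈ irreducibleComponents U.toScheme := mem_irreducibleComponents_closure fun η hη => by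
    exact Subtype.ext (hmax η.1 (hη.map continuous_subtype_val))
  obtain ⟨O, hO, ⟨y, hy⟩, hOw⟩ :=
    TopologicalSpace.NoetherianSpace.exists_isOpen_nonempty_subset_irreducibleComponent _ hw
  have hwO : w ∈ O := (specializes_iff_mem_closure.2 (hOw hy)).mem_open hO hy
  obtain ⟨z, ⟨v, hv, rfl⟩, hzC⟩ := mem_closure_iff.1 ht' _ (U.ι.isOpenEmbedding.isOpenMap O hO) ⟨w, hwO, rfl⟩
  refine hzC ?_
  have hvt : t ⤳ (v.1 : Z) := (specializes_iff_mem_closure.2 (hOw hv)).map continuous_subtype_val
  exact hvt.mem_closed hC ht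

theorem discreteTopology_of_isClosed_points {T : Scheme.{u}} [IsLocallyNoetherian T]
    (h : ∀ t : T, IsClosed ({t} : Set T)) : DiscreteTopology T := by
  haveI : IsLocallyArtinian T := IsLocallyArtinian.of_topologicalKrullDim_le_zero <| by
    refine Order.krullDim_nonpos_iff_forall_isMin.2 fun s r hrs => ?_
    obtain ⟨η, hη⟩ := QuasiSober.sober s.isIrreducible s.isClosed
    have hs : (s : Set T) = {η} := hη.def.symm.trans (h η).closure_eq
    intro x hx
    obtain ⟨z, hz⟩ := r.isIrreducible.nonempty
    have hz' : z = η := hs.le (hrs hz)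
    have hx' : x = η := hs.le hx
    exact hx' ▸ hz' ▸ hz
  infer_instance

theorem isSepClosed_residueField {K : Type u} [Field K] [IsSepClosed K] {T : Scheme.{u}}
    (a : T ⟶ Spec (CommRingCat.of K)) [LocallyOfFiniteType a] {t : T} (ht : IsClosed ({t} : Set T)) :
    IsSepClosed (T.residueField t) := by
  haveI := AlgSpDec.isClosedImmersion_fromSpecResidueField ht
  obtain ⟨φ, hφ⟩ := Spec.map_surjective (T.fromSpecResidueField t ≫ a)
  have hft : φ.hom.FiniteType := by
    rw [← HasRingHomProperty.Spec_iff (P := @LocallyOfFiniteType), hφ]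
    infer_instance
  algebraize [φ.hom]
  haveI : Module.Finite K (T.residueField t) := finite_of_finite_type_of_isJacobsonRing _ _
  exact Algebra.IsAlgebraic.isSepClosed (F := K)

/-- Over a separably closed residue field the fibre of a finite étale morphism has as many points as
its degree. -/
theorem card_fiber {E T : Scheme.{u}} (f : E ⟶ T) [IsFinite f] [Etale f] (t : T)
    [IsSepClosed (T.residueField t)] : ENat.card ↥(f ⁻¹' {t}) = f.finrank t := by
  let l : Spec (CommRingCat.of (AlgebraicClosure (T.residueField t))) ⟶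
      Spec (CommRingCat.of (T.residueField t)) :=
    Spec.map (CommRingCat.ofHom (algebraMap (T.residueField t) (AlgebraicClosure (T.residueField t))))
  let ξ : Spec (CommRingCat.of (T.residueField t)) ⟶ T := T.fromSpecResidueField t
  have h1 : ENat.card (EtCount.Lifts f ξ) = ENat.card ↥(f.fiber t) := EtCount.card_lifts_eq_card_pullback f ξ
  have h2 := EtCount.card_lifts_ext f ξ l
  have h3 := H9EtDeg.card_lifts f (l ≫ ξ)
  rw [← ENat.card_congr (f.fiberHomeo t).toEquiv, ← h1, h2, h3]
  congr 2
  rw [Scheme.Hom.comp_apply]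
  exact Scheme.fromSpecResidueField_apply t _

theorem exists_section_point {K : Type u} [Field K] [IsSepClosed K] {E T : Scheme.{u}} [DiscreteTopology T]
    (a : T ⟶ Spec (CommRingCat.of K)) [LocallyOfFiniteType a] (f : E ⟶ T) [IsFinite f] [Etale f]
    (t : T) (x : E) (hx : f x = t) :
    ∃ s : Scheme.Opens.toScheme (X := T) ⟨{t}, isOpen_discrete _⟩ ⟶ E, IsOpenImmersion s ∧ Set.range s = {x} ∧
      s ≫ f = Scheme.Opens.ι _ := by
  haveI := fun s : T => isSepClosed_residueField a (t := s) (isClosed_discrete _)
  have hsing : IsOpen ({x} : Set E) ∧ IsClosed ({x} : Set E) := by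
    have hfin : (f ⁻¹' {t}).Finite := Set.finite_coe_iff.1 <| ENat.card_lt_top.1 <| by
      rw [card_fiber]; exact ENat.natCast_lt_top _
    haveI : DiscreteTopology ↥(f ⁻¹' {t}) := (f.isDiscrete_preimage_singleton t).1
    have ho : IsOpen (f ⁻¹' {t}) := (isOpen_discrete {t}).preimage f.continuous
    have hc : IsClosed (f ⁻¹' {t}) := (isClosed_discrete {t}).preimage f.continuous
    have himg : Subtype.val '' ({⟨x, hx⟩} : Set ↥(f ⁻¹' {t})) = {x} := Set.image_singleton
    exact ⟨himg ▸ ho.isOpenMap_subtype_val _ (isOpen_discrete _),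
      himg ▸ hc.isClosedMap_subtype_val _ (isClosed_discrete _)⟩
  let O : E.Opens := ⟨{x}, hsing.1⟩
  let W : T.Opens := ⟨{t}, isOpen_discrete _⟩
  haveI : IsClosedImmersion O.ι := .of_isPreimmersion _ (by rw [Scheme.Opens.range_ι]; exact hsing.2)
  have hr : Set.range (O.ι ≫ f) ⊆ Set.range W.ι := by
    rintro _ ⟨⟨p, hp⟩, rfl⟩
    obtain rfl : p = x := hp
    rw [Scheme.Opens.range_ι]
    exact hx
  let g := IsOpenImmersion.lift W.ι (O.ι ≫ f) hr
  have hg : g ≫ W.ι = O.ι ≫ f := IsOpenImmersion.lift_fac _ _ _
  haveI : IsFinite g := by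
    haveI : IsFinite (g ≫ W.ι) := by rw [hg]; infer_instance
    exact IsFinite.of_comp g W.ι
  haveI : Etale g := by
    haveI : Etale (g ≫ W.ι) := by rw [hg]; infer_instance
    exact Etale.of_comp g W.ι
  have hgi : IsIso g := by
    rw [Scheme.Hom.isIso_iff_finrank_eq]
    funext w
    haveI : DiscreteTopology W.toScheme := W.ι.isOpenEmbedding.discreteTopology
    haveI : IsSepClosed (W.toScheme.residueField w) :=
      isSepClosed_residueField (W.ι ≫ a) (isClosed_discrete {w})
    have h := card_fiber g w
    have h1 : ENat.card ↥(g ⁻¹' {w}) = 1 := by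
      haveI : Subsingleton O.toScheme := inferInstanceAs (Subsingleton ↥({x} : Set E))
      haveI : Subsingleton W.toScheme := inferInstanceAs (Subsingleton ↥({t} : Set T))
      rw [ENat.card_eq_one_iff_unique]
      exact ⟨{ default := ⟨⟨x, rfl⟩, Subsingleton.elim _ _⟩
               uniq := fun _ => Subsingleton.elim _ _ }⟩
    rw [h1] at h
    exact (Nat.cast_injective (R := ℕ∞) (h.symm.trans Nat.cast_one.symm))
  refine ⟨inv g ≫ O.ι, inferInstance, ?_, by rw [Category.assoc, ← hg, IsIso.inv_hom_id_assoc]⟩
  rw [Scheme.Hom.comp_base, TopCat.coe_comp, Set.range_comp, Set.range_eq_univ.2 (inv g).surjective,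
    Set.image_univ, Scheme.Opens.range_ι]
  rfl

/-- Finite étale covers of the same constant degree of a discrete scheme locally of finite type over
a separably closed field are isomorphic. -/
theorem exists_iso_of_finrank_eq {K : Type u} [Field K] [IsSepClosed K] {E E' T : Scheme.{u}}
    [DiscreteTopology T] (a : T ⟶ Spec (CommRingCat.of K)) [LocallyOfFiniteType a] (f : E ⟶ T) (f' : E' ⟶ T)
    [IsFinite f] [Etale f] [IsFinite f'] [Etale f'] (h : ∀ t, f.finrank t = f'.finrank t) :
    ∃ φ : E ⟶ E', IsIso φ ∧ φ ≫ f' = f := by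
  haveI := fun s : T => isSepClosed_residueField a (t := s) (isClosed_discrete _)
  have he : ∀ t, Nonempty ({x // f x = t} ≃ {x // f' x = t}) := fun t => by
    have h1 : ENat.card {x // f x = t} = f.finrank t := card_fiber f t
    have h2 : ENat.card {x // f' x = t} = f'.finrank t := card_fiber f' t
    haveI : Finite {x // f x = t} := ENat.card_lt_top.1 (h1 ▸ ENat.natCast_lt_top _)
    haveI : Finite {x // f' x = t} := ENat.card_lt_top.1 (h2 ▸ ENat.natCast_lt_top _)
    haveI := Fintype.ofFinite {x // f x = t}
    haveI := Fintype.ofFinite {x // f' x = t}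
    rw [ENat.card_eq_coe_fintype_card, ← Nat.card_eq_fintype_card] at h1 h2
    exact Finite.card_eq.1 (by exact_mod_cast h1.trans ((congrArg Nat.cast (h t)).trans h2.symm))
  let σ : E ≃ E' := (Equiv.sigmaFiberEquiv f).symm.trans
    ((Equiv.sigmaCongrRight fun t => (he t).some).trans (Equiv.sigmaFiberEquiv f'))
  have hσ : ∀ x, f' (σ x) = f x := fun x => ((he (f x)).some ⟨x, rfl⟩).2
  let W : E → Scheme.{u} := fun x => Scheme.Opens.toScheme (X := T) ⟨{f x}, isOpen_discrete _⟩
  choose s hso hsr hsf using fun x : E => exists_section_point a f (f x) x rfl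
  choose s' hso' hsr' hsf' using fun x : E => exists_section_point a f' (f x) (σ x) (hσ x)
  have key : ∀ {Y : Scheme.{u}} (r : ∀ x : E, W x ⟶ Y), (∀ x, IsOpenImmersion (r x)) →
      ∀ (τ : E → Y), Function.Bijective τ → (∀ x, Set.range (r x) = {τ x}) → IsIso (Sigma.desc r) := by
    intro Y r hr τ hτ hrange
    haveI := hr
    obtain ⟨H⟩ := nonempty_isColimit_cofanMk_of (X := W) r
      (top_le_iff.1 fun y _ => by
        obtain ⟨x, rfl⟩ := hτ.2 y
        exact Opens.mem_iSup.2 ⟨x, (hrange x).ge rfl⟩)
      (fun i j hij => disjoint_iff.2 <| Opens.ext <| by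
        show Set.range (r i) ∩ Set.range (r j) = ∅
        rw [hrange, hrange, Set.singleton_inter_eq_empty, Set.mem_singleton_iff]
        exact fun he => hij (hτ.1 he))
    exact (Cofan.nonempty_isColimit_iff_isIso_sigmaDesc _).1 ⟨H⟩
  haveI := key s hso id Function.bijective_id hsr
  haveI := key s' hso' σ σ.bijective hsr'
  refine ⟨inv (Sigma.desc s) ≫ Sigma.desc s', inferInstance, ?_⟩
  rw [Category.assoc, IsIso.inv_comp_eq]
  exact Sigma.hom_ext _ _ fun x => by simp [hsf, hsf']

end Groth.Agent.CurveFEtExt
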